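import Cfsg.Prelude.Def_Characters
import Cfsg.Prelude.Def_ParabolicCharacters
import Cfsg.Agent.Lib.Linear.Card
import Cfsg.Agent.Lib.Char.Induced
import Cfsg.Agent.Lib.Char.Orth
import Cfsg.Agent.Lib.Char.Virtual
import Mathlib.NumberTheory.MulChar.Lemmas

/-! The upper triangular subgroup of `GL₂(F)` and the principal series functions. -/

set_option autoImplicit false

open scoped ComplexConjugate

namespace CfsgLib.GL2Char

open Matrix

variable {F : Type*} [Field F]

local notation "GL2" => GL (Fin 2) F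

theorem mem_B_iff {x : GL2} :
    x ∈ Cfsg.upperTriangularGL 2 F ↔ (x : Matrix (Fin 2) (Fin 2) F) 1 0 = 0 := by
  constructor
  · intro h
    exact h (show id (0 : Fin 2) < id 1 by decide)
  · intro h
    show (x : Matrix (Fin 2) (Fin 2) F).BlockTriangular id
    intro i j hij
    fin_cases i <;> fin_cases j <;> simp_all

/-- An invertible matrix given by its entries. -/
noncomputable def mk (a b c d : F) (h : a * d - b * c ≠ 0) : GL2 :=
  Matrix.GeneralLinearGroup.mkOfDetNeZero !![a, b; c, d] (by rwa [det_fin_two_of])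

theorem coe_mk (a b c d : F) (h : a * d - b * c ≠ 0) :
    (mk a b c d h : Matrix (Fin 2) (Fin 2) F) = !![a, b; c, d] := rfl

theorem det_entries_ne (x : GL2) :
    (x : Matrix (Fin 2) (Fin 2) F) 0 0 * (x : Matrix (Fin 2) (Fin 2) F) 1 1 -
      (x : Matrix (Fin 2) (Fin 2) F) 0 1 * (x : Matrix (Fin 2) (Fin 2) F) 1 0 ≠ 0 := by
  rw [← det_fin_two]
  exact (Matrix.GeneralLinearGroup.det x).ne_zero

/-- Elements of the upper triangular subgroup are given by two units and a field element. -/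
noncomputable def bEquiv : Cfsg.upperTriangularGL 2 F ≃ Fˣ × Fˣ × F where
  toFun b := (Units.mk0 ((b.1 : Matrix (Fin 2) (Fin 2) F) 0 0) (by
      intro h
      have := det_entries_ne b.1
      rw [h, mem_B_iff.1 b.2] at this
      simp at this),
    Units.mk0 ((b.1 : Matrix (Fin 2) (Fin 2) F) 1 1) (by
      intro h
      have := det_entries_ne b.1
      rw [h, mem_B_iff.1 b.2] at this
      simp at this),
    (b.1 : Matrix (Fin 2) (Fin 2) F) 0 1)
  invFun p := ⟨mk (p.1 : F) p.2.2 0 (p.2.1 : F) (by simp), mem_B_iff.2 (by simp [coe_mk])⟩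
  left_inv b := by
    apply Subtype.ext
    apply Units.ext
    ext i j
    fin_cases i <;> fin_cases j <;> simp [coe_mk, mem_B_iff.1 b.2]
  right_inv p := by
    refine Prod.ext (Units.ext ?_) (Prod.ext (Units.ext ?_) ?_) <;> simp [coe_mk]

theorem bEquiv_symm_coe (a d : Fˣ) (u : F) :
    (((bEquiv.symm (a, d, u) : Cfsg.upperTriangularGL 2 F) : GL2) : Matrix (Fin 2) (Fin 2) F) =
      !![(a : F), u; 0, (d : F)] := rfl

/-- Entries of a conjugate `x⁻¹ g x`. -/
theorem conj_eqs (g x : GL2) :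
    (g : Matrix (Fin 2) (Fin 2) F) 0 0 * (x : Matrix (Fin 2) (Fin 2) F) 0 0 +
        (g : Matrix (Fin 2) (Fin 2) F) 0 1 * (x : Matrix (Fin 2) (Fin 2) F) 1 0 =
      (x : Matrix (Fin 2) (Fin 2) F) 0 0 * ((x⁻¹ * g * x : GL2) : Matrix (Fin 2) (Fin 2) F) 0 0 +
        (x : Matrix (Fin 2) (Fin 2) F) 0 1 * ((x⁻¹ * g * x : GL2) : Matrix (Fin 2) (Fin 2) F) 1 0 ∧
    (g : Matrix (Fin 2) (Fin 2) F) 1 0 * (x : Matrix (Fin 2) (Fin 2) F) 0 0 +
        (g : Matrix (Fin 2) (Fin 2) F) 1 1 * (x : Matrix (Fin 2) (Fin 2) F) 1 0 =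
      (x : Matrix (Fin 2) (Fin 2) F) 1 0 * ((x⁻¹ * g * x : GL2) : Matrix (Fin 2) (Fin 2) F) 0 0 +
        (x : Matrix (Fin 2) (Fin 2) F) 1 1 * ((x⁻¹ * g * x : GL2) : Matrix (Fin 2) (Fin 2) F) 1 0 ∧
    ((x⁻¹ * g * x : GL2) : Matrix (Fin 2) (Fin 2) F) 0 0 +
        ((x⁻¹ * g * x : GL2) : Matrix (Fin 2) (Fin 2) F) 1 1 =
      (g : Matrix (Fin 2) (Fin 2) F) 0 0 + (g : Matrix (Fin 2) (Fin 2) F) 1 1 := by
  have h : (g : Matrix (Fin 2) (Fin 2) F) * (x : Matrix (Fin 2) (Fin 2) F) =
      (x : Matrix (Fin 2) (Fin 2) F) * ((x⁻¹ * g * x : GL2) : Matrix (Fin 2) (Fin 2) F) := by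
    rw [← Units.val_mul, ← Units.val_mul]
    congr 1
    group
  have h0 := congrFun (congrFun h 0) 0
  have h1 := congrFun (congrFun h 1) 0
  simp only [Matrix.mul_apply, Fin.sum_univ_two] at h0 h1
  refine ⟨h0, h1, ?_⟩
  have ht : ((x⁻¹ * g * x : GL2) : Matrix (Fin 2) (Fin 2) F).trace =
      (g : Matrix (Fin 2) (Fin 2) F).trace := by
    rw [Units.val_mul, Units.val_mul]
    exact Matrix.trace_units_conj' x _
  rwa [trace_fin_two, trace_fin_two] at ht

/-- An element with an upper triangular conjugate has an eigenvector. -/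
theorem forall_notMem_of_noEigen {g : GL2}
    (h : ∀ (c : F) (v : Fin 2 → F), v ≠ 0 → (g : Matrix (Fin 2) (Fin 2) F).mulVec v ≠ c • v)
    (x : GL2) : x⁻¹ * g * x ∉ Cfsg.upperTriangularGL 2 F := by
  intro hx
  rw [mem_B_iff] at hx
  obtain ⟨e0, e1, -⟩ := conj_eqs g x
  rw [hx, mul_zero, add_zero] at e0 e1
  generalize ((x⁻¹ * g * x : GL2) : Matrix (Fin 2) (Fin 2) F) = y at e0 e1
  refine h (y 0 0)
    (fun i => (x : Matrix (Fin 2) (Fin 2) F) i 0) ?_ ?_
  · intro h0
    have := det_entries_ne x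
    rw [show (x : Matrix (Fin 2) (Fin 2) F) 0 0 = 0 from congrFun h0 0,
      show (x : Matrix (Fin 2) (Fin 2) F) 1 0 = 0 from congrFun h0 1] at this
    simp at this
  · funext i
    fin_cases i <;> simp [Matrix.mulVec, dotProduct, Fin.sum_univ_two]
    · linear_combination e0
    · linear_combination e1

variable [Fintype F]

theorem card_B : Nat.card (Cfsg.upperTriangularGL 2 F) =
    (Fintype.card F - 1) * ((Fintype.card F - 1) * Fintype.card F) := by
  rw [Nat.card_congr bEquiv, Nat.card_prod, Nat.card_prod, Nat.card_units,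
    Nat.card_eq_fintype_card]

theorem card_B_ne_zero : (Nat.card (Cfsg.upperTriangularGL 2 F) : ℂ) ≠ 0 :=
  Nat.cast_ne_zero.mpr Nat.card_pos.ne'

theorem card_GL2_eq :
    Nat.card GL2 = (Fintype.card F + 1) * Nat.card (Cfsg.upperTriangularGL 2 F) := by
  classical
  rw [CfsgLib.Linear.card_GL_eq_mul_card_SL, CfsgLib.Linear.card_SL_two, card_B]
  obtain ⟨k, hk⟩ : ∃ k, Fintype.card F = k + 1 :=
    ⟨_, (Nat.sub_add_cancel Fintype.card_pos).symm⟩
  rw [hk, Nat.add_sub_cancel, show (k + 1) ^ 2 = k * (k + 2) + 1 by ring, Nat.add_sub_cancel]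
  ring

variable [DecidableEq F]

/-- The linear character of the upper triangular subgroup. -/
noncomputable def bHom (α β : MulChar F ℂ) : Cfsg.upperTriangularGL 2 F →* ℂ where
  toFun b := α (((b : GL2) : Matrix (Fin 2) (Fin 2) F) 0 0) *
    β (((b : GL2) : Matrix (Fin 2) (Fin 2) F) 1 1)
  map_one' := by simp
  map_mul' b c := by
    have hb := mem_B_iff.1 b.2
    have hc := mem_B_iff.1 c.2
    simp [Matrix.mul_apply, Fin.sum_univ_two, hb, hc, map_mul]
    ring

/-- The principal series function attached to two multiplicative characters. -/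
noncomputable abbrev R (α β : MulChar F ℂ) : GL2 → ℂ :=
  Cfsg.indFun (Cfsg.upperTriangularGL 2 F) (fun b => α (((b : GL2) : Matrix (Fin 2) (Fin 2) F) 0 0) *
    β (((b : GL2) : Matrix (Fin 2) (Fin 2) F) 1 1))

variable (α β : MulChar F ℂ)

theorem isCharacter_R : Cfsg.IsCharacter GL2 (R α β) :=
  CfsgLib.Char.IsCharacter.indFun _
    (CfsgLib.Char.IsIrrCharacter.isCharacter
      (CfsgLib.Char.isIrrCharacter_monoidHom (bHom α β).toHomUnits))

theorem isClassFunction_R : Cfsg.IsClassFunction GL2 (R α β) :=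
  CfsgLib.Char.isClassFunction_indFun _ _

theorem R_noEigen {g : GL2}
    (h : ∀ (c : F) (v : Fin 2 → F), v ≠ 0 → (g : Matrix (Fin 2) (Fin 2) F).mulVec v ≠ c • v) :
    R α β g = 0 :=
  CfsgLib.Char.indFun_eq_zero_of_forall_notMem _ _ g (forall_notMem_of_noEigen h)

theorem sum_ite_eq_card {G : Type*} [Fintype G] (p : G → Prop) [DecidablePred p] (c : ℂ) :
    ∑ x : G, (if p x then c else 0) = (Nat.card {x // p x} : ℂ) * c := by
  rw [← Finset.sum_filter, Finset.sum_const, nsmul_eq_mul, Nat.card_eq_fintype_card,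
    Fintype.card_subtype]

omit [DecidableEq F] [Fintype F] in
theorem card_lower_zero :
    Nat.card {x : GL2 // (x : Matrix (Fin 2) (Fin 2) F) 1 0 = 0} =
      Nat.card (Cfsg.upperTriangularGL 2 F) :=
  Nat.card_congr (Equiv.subtypeEquivRight fun _ => mem_B_iff.symm)

omit [DecidableEq F] [Fintype F] in
theorem card_line (k : F) :
    Nat.card {x : GL2 // (x : Matrix (Fin 2) (Fin 2) F) 0 0 =
        k * (x : Matrix (Fin 2) (Fin 2) F) 1 0} =
      Nat.card (Cfsg.upperTriangularGL 2 F) := by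
  symm
  refine Nat.card_congr (Equiv.subtypeEquiv (Equiv.mulLeft (mk k 1 1 0 (by simp) : GL2)) fun b => ?_)
  rw [mem_B_iff]
  simp [Matrix.mul_apply, Fin.sum_univ_two, coe_mk]

/-- Values of the principal series at upper triangular elements. -/
theorem R_triangular {g : GL2} (h10 : (g : Matrix (Fin 2) (Fin 2) F) 1 0 = 0) :
    R α β g =
      if (g : Matrix (Fin 2) (Fin 2) F) 0 0 = (g : Matrix (Fin 2) (Fin 2) F) 1 1 then
        (if (g : Matrix (Fin 2) (Fin 2) F) 0 1 = 0 then (Fintype.card F : ℂ) + 1 else 1) *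
          (α ((g : Matrix (Fin 2) (Fin 2) F) 0 0) * β ((g : Matrix (Fin 2) (Fin 2) F) 1 1))
      else α ((g : Matrix (Fin 2) (Fin 2) F) 0 0) * β ((g : Matrix (Fin 2) (Fin 2) F) 1 1) +
        α ((g : Matrix (Fin 2) (Fin 2) F) 1 1) * β ((g : Matrix (Fin 2) (Fin 2) F) 0 0) := by
  classical
  set a := (g : Matrix (Fin 2) (Fin 2) F) 0 0
  set d := (g : Matrix (Fin 2) (Fin 2) F) 1 1
  set u := (g : Matrix (Fin 2) (Fin 2) F) 0 1
  have key : ∀ x : GL2, Cfsg.extendByZero (Cfsg.upperTriangularGL 2 F)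
      (fun b => α (((b : GL2) : Matrix (Fin 2) (Fin 2) F) 0 0) *
        β (((b : GL2) : Matrix (Fin 2) (Fin 2) F) 1 1)) (x⁻¹ * g * x) =
      (if (x : Matrix (Fin 2) (Fin 2) F) 1 0 = 0 then α a * β d else 0) +
        (if (x : Matrix (Fin 2) (Fin 2) F) 1 0 ≠ 0 ∧ (d - a) * (x : Matrix (Fin 2) (Fin 2) F) 0 0 =
            u * (x : Matrix (Fin 2) (Fin 2) F) 1 0 then α d * β a else 0) := by
    intro x
    obtain ⟨e0, e1, et⟩ := conj_eqs g x
    have hdet := det_entries_ne x
    rw [h10] at e1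
    simp only [zero_mul, zero_add] at e1
    set y := ((x⁻¹ * g * x : GL2) : Matrix (Fin 2) (Fin 2) F) with hy
    have h10' : ((x : Matrix (Fin 2) (Fin 2) F) 0 0 * (x : Matrix (Fin 2) (Fin 2) F) 1 1 -
        (x : Matrix (Fin 2) (Fin 2) F) 0 1 * (x : Matrix (Fin 2) (Fin 2) F) 1 0) * y 1 0 =
        (x : Matrix (Fin 2) (Fin 2) F) 1 0 * ((d - a) * (x : Matrix (Fin 2) (Fin 2) F) 0 0 -
          u * (x : Matrix (Fin 2) (Fin 2) F) 1 0) := by
      linear_combination (x : Matrix (Fin 2) (Fin 2) F) 1 0 * e0 -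
        (x : Matrix (Fin 2) (Fin 2) F) 0 0 * e1
    by_cases hm : y 1 0 = 0
    · rw [CfsgLib.Char.extendByZero_apply_mem _ _ (mem_B_iff.2 hm)]
      show α (y 0 0) * β (y 1 1) = _
      rw [hm, mul_zero] at h10'
      rw [hm, mul_zero, add_zero] at e0 e1
      by_cases hc : (x : Matrix (Fin 2) (Fin 2) F) 1 0 = 0
      · rw [hc] at e0 hdet
        have ha : (x : Matrix (Fin 2) (Fin 2) F) 0 0 ≠ 0 := fun h => hdet (by rw [h]; ring)
        have h0 : y 0 0 = a := mul_left_cancel₀ ha (by linear_combination -e0)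
        rw [if_pos hc, if_neg (fun h => h.1 hc), add_zero, h0,
          show y 1 1 = d by linear_combination et - h0]
      · have h0 : y 0 0 = d := mul_left_cancel₀ hc (by linear_combination -e1)
        rw [if_neg hc, zero_add, if_pos ⟨hc, sub_eq_zero.1
          ((mul_eq_zero.1 h10'.symm).resolve_left hc)⟩, h0,
          show y 1 1 = a by linear_combination et - h0]
    · rw [CfsgLib.Char.extendByZero_of_notMem _ _ (fun h => hm (mem_B_iff.1 h))]
      have hne := mul_ne_zero hdet hm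
      rw [h10'] at hne
      have hc := left_ne_zero_of_mul hne
      rw [if_neg hc, if_neg (fun h => hne (by rw [h.2]; ring)), add_zero]
  rw [R, CfsgLib.Char.indFun_apply, Finset.sum_congr rfl fun x _ => key x,
    Finset.sum_add_distrib, sum_ite_eq_card, sum_ite_eq_card, card_lower_zero]
  have hB := card_B_ne_zero (F := F)
  by_cases had : a = d
  · rw [if_pos had]
    by_cases hu : u = 0
    · rw [if_pos hu]
      have hcnt : Nat.card {x : GL2 // (x : Matrix (Fin 2) (Fin 2) F) 1 0 ≠ 0 ∧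
          (d - a) * (x : Matrix (Fin 2) (Fin 2) F) 0 0 = u * (x : Matrix (Fin 2) (Fin 2) F) 1 0} =
          Fintype.card F * Nat.card (Cfsg.upperTriangularGL 2 F) := by
        rw [Nat.card_congr (Equiv.subtypeEquivRight (q := fun x : GL2 =>
          ¬ (x : Matrix (Fin 2) (Fin 2) F) 1 0 = 0) fun x => by simp [had, hu])]
        have h := Fintype.card_subtype_compl (fun x : GL2 => (x : Matrix (Fin 2) (Fin 2) F) 1 0 = 0)
        simp only [← Nat.card_eq_fintype_card] at h
        rw [h, card_lower_zero, card_GL2_eq, Nat.add_mul, one_mul, Nat.add_sub_cancel]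
      rw [hcnt, Nat.cast_mul, ← had]
      field_simp
      ring
    · rw [if_neg hu]
      have : IsEmpty {x : GL2 // (x : Matrix (Fin 2) (Fin 2) F) 1 0 ≠ 0 ∧
          (d - a) * (x : Matrix (Fin 2) (Fin 2) F) 0 0 = u * (x : Matrix (Fin 2) (Fin 2) F) 1 0} :=
        ⟨fun ⟨x, hx, he⟩ => by
          rw [had, sub_self, zero_mul, eq_comm, mul_eq_zero] at he
          exact he.elim hu hx⟩
      have h0 : Nat.card {x : GL2 // (x : Matrix (Fin 2) (Fin 2) F) 1 0 ≠ 0 ∧
          (d - a) * (x : Matrix (Fin 2) (Fin 2) F) 0 0 = u * (x : Matrix (Fin 2) (Fin 2) F) 1 0} = 0 :=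
        Nat.card_of_isEmpty
      rw [h0, Nat.cast_zero, zero_mul, add_zero, one_mul, inv_mul_cancel_left₀ hB]
  · rw [if_neg had]
    have hcnt : Nat.card {x : GL2 // (x : Matrix (Fin 2) (Fin 2) F) 1 0 ≠ 0 ∧
        (d - a) * (x : Matrix (Fin 2) (Fin 2) F) 0 0 = u * (x : Matrix (Fin 2) (Fin 2) F) 1 0} =
        Nat.card (Cfsg.upperTriangularGL 2 F) := by
      rw [← card_line (u / (d - a))]
      refine Nat.card_congr (Equiv.subtypeEquivRight fun x => ?_)
      have hda : d - a ≠ 0 := sub_ne_zero.2 (Ne.symm had)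
      rw [div_mul_eq_mul_div, eq_div_iff hda]
      refine ⟨fun h => by linear_combination h.2, fun h => ⟨fun hc => ?_, by linear_combination h⟩⟩
      have := det_entries_ne x
      rw [hc, mul_zero] at h
      rw [hc, (mul_eq_zero.1 h).resolve_right hda] at this
      simp at this
    rw [hcnt, ← mul_add, inv_mul_cancel_left₀ hB]

/-- Mackey formula for the principal series. -/
theorem classInner_R (α' β' : MulChar F ℂ) [Decidable (α = α' ∧ β = β')]
    [Decidable (α = β' ∧ β = α')] :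
    Cfsg.classInner (R α β) (R α' β') =
      (if α = α' ∧ β = β' then 1 else 0) + (if α = β' ∧ β = α' then 1 else 0) := by
  classical
  rw [R, CfsgLib.Char.classInner_indFun _ _ _ (isClassFunction_R α' β')]
  unfold Cfsg.classInner
  rw [← (bEquiv (F := F)).symm.sum_comp]
  simp only [Fintype.sum_prod_type]
  have hq : (Fintype.card F : ℂ) ≠ 0 := Nat.cast_ne_zero.2 Fintype.card_ne_zero
  have step : ∀ a d : Fˣ, ∑ u : F,
      ((fun b : Cfsg.upperTriangularGL 2 F => α (((b : GL2) : Matrix (Fin 2) (Fin 2) F) 0 0) *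
        β (((b : GL2) : Matrix (Fin 2) (Fin 2) F) 1 1)) (bEquiv.symm (a, d, u)) *
        conj (R α' β' (bEquiv.symm (a, d, u) : GL2))) =
      (Fintype.card F : ℂ) * (((α * α'⁻¹) (a : F)) * ((β * β'⁻¹) (d : F)) +
        ((α * β'⁻¹) (a : F)) * ((β * α'⁻¹) (d : F))) := by
    intro a d
    have c : ∀ (χ : MulChar F ℂ) (x : F), conj (χ x) = χ⁻¹ x := fun χ x => MulChar.star_apply' χ x
    have hR : ∑ u : F, R α' β' (bEquiv.symm (a, d, u) : GL2) =
        (Fintype.card F : ℂ) * (α' (a : F) * β' (d : F) + α' (d : F) * β' (a : F)) := by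
      rw [Finset.sum_congr rfl fun u _ => R_triangular α' β' (by simp [bEquiv_symm_coe])]
      simp only [bEquiv_symm_coe]
      simp only [of_apply, cons_val', cons_val_zero, cons_val_one, cons_val_fin_one, empty_val']
      by_cases h : (a : F) = (d : F)
      · simp only [← h, if_true, ← Finset.sum_mul]
        rw [← Finset.add_sum_erase _ _ (Finset.mem_univ (0 : F)), if_pos rfl,
          Finset.sum_congr rfl (fun u hu => if_neg (Finset.ne_of_mem_erase hu)), Finset.sum_const,
          Finset.card_erase_of_mem (Finset.mem_univ _), Finset.card_univ, nsmul_eq_mul,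
          Nat.cast_sub Fintype.card_pos]
        push_cast
        ring
      · simp only [if_neg h, Finset.sum_const, Finset.card_univ, nsmul_eq_mul]
    simp only [bEquiv_symm_coe, of_apply, cons_val', cons_val_zero, cons_val_one, cons_val_fin_one,
      empty_val']
    rw [← Finset.mul_sum, ← map_sum, hR]
    simp only [map_mul, map_add, map_natCast, c, MulChar.mul_apply]
    ring
  rw [Finset.sum_congr rfl fun a _ => Finset.sum_congr rfl fun d _ => step a d]
  have hsum : ∀ χ : MulChar F ℂ, ∑ a : Fˣ, χ (a : F) =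
      if χ = 1 then ((Fintype.card F : ℂ) - 1) else 0 := by
    intro χ
    have h := MulChar.sum_eq_zero_of_ne_one (χ := χ)
    have hu : ∑ a : Fˣ, χ (a : F) = ∑ x ∈ Finset.univ.erase (0 : F), χ x :=
      Finset.sum_bij (fun a _ => (a : F)) (fun a _ => Finset.mem_erase.2 ⟨a.ne_zero, Finset.mem_univ _⟩)
        (fun a _ b _ e => Units.ext e)
        (fun x hx => ⟨Units.mk0 x (Finset.ne_of_mem_erase hx), Finset.mem_univ _, rfl⟩)
        (fun _ _ => rfl)
    split_ifs with hχ
    · subst hχ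
      simp [MulChar.one_apply_coe, Fintype.card_units, Nat.cast_sub Fintype.card_pos]
    · rw [hu, Finset.sum_erase_eq_sub (Finset.mem_univ _), h hχ, MulChar.map_zero, sub_zero]
  simp only [← Finset.mul_sum, Finset.sum_add_distrib, ← Finset.mul_sum, hsum]
  simp only [← Finset.sum_mul, hsum, mul_inv_eq_one]
  rw [card_B, Nat.cast_mul, Nat.cast_mul, Nat.cast_sub Fintype.card_pos]
  have hq1 : (Fintype.card F : ℂ) - 1 ≠ 0 := sub_ne_zero.2 (by
    exact_mod_cast (Fintype.one_lt_card (α := F)).ne')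
  simp only [Nat.cast_one]
  split_ifs <;> first | (exfalso; tauto) | (field_simp; ring) | field_simp

theorem eq_zero_of_norm_zero {G : Type*} [Group G] [Fintype G] {f : G → ℂ}
    (h : Cfsg.classInner f f = 0) : f = 0 := by
  unfold Cfsg.classInner at h
  rw [mul_eq_zero, inv_eq_zero, Nat.cast_eq_zero] at h
  have h2 : ∑ g : G, f g * conj (f g) = 0 := h.resolve_left Nat.card_pos.ne'
  simp only [Complex.mul_conj] at h2
  have h3 : ∑ g : G, Complex.normSq (f g) = 0 := by exact_mod_cast h2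
  funext g
  exact Complex.normSq_eq_zero.1
    ((Finset.sum_eq_zero_iff_of_nonneg fun x _ => Complex.normSq_nonneg (f x)).1 h3 g
      (Finset.mem_univ g))

end CfsgLib.GL2Char
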