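import Cfsg.Agent.Lib.GL2Char.Borel
import Cfsg.Agent.Lib.SL2Deg.Classify
import Cfsg.Agent.Lib.Char.Complete

/-! The irreducible characters of `GL₂(F)` by degree, with some values. -/

set_option autoImplicit false

open scoped ComplexConjugate

namespace CfsgLib.GL2Char

open Matrix

variable {F : Type*} [Field F]

local notation "GL2" => GL (Fin 2) F

/-- Upper transvection. -/
noncomputable def ug (b : F) : GL2 := mk 1 b 0 1 (by simp)

theorem coe_ug (b : F) : (ug b : Matrix (Fin 2) (Fin 2) F) = !![1, b; 0, 1] := rfl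

theorem ug_zero : ug (0 : F) = 1 := by
  apply Units.ext
  rw [coe_ug, Units.val_one]
  ext i j
  fin_cases i <;> fin_cases j <;> simp

theorem isConj_ug {b : F} (hb : b ≠ 0) : IsConj (ug b) (ug (1 : F)) := by
  refine isConj_iff.2 ⟨mk b⁻¹ 0 0 1 (by simp [hb]), ?_⟩
  rw [mul_inv_eq_iff_eq_mul]
  apply Units.ext
  rw [Units.val_mul, Units.val_mul, coe_ug, coe_ug, coe_mk]
  ext i j
  fin_cases i <;> fin_cases j <;> simp [hb]

/-- The homomorphism from the additive group. -/
noncomputable def ugHom : Multiplicative F →* GL2 where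
  toFun b := ug b.toAdd
  map_one' := ug_zero
  map_mul' b c := by
    apply Units.ext
    rw [Units.val_mul, coe_ug, coe_ug, coe_ug]
    ext i j
    fin_cases i <;> fin_cases j <;> simp [add_comm]

variable [Fintype F] [DecidableEq F]

noncomputable local instance fintypeMulCharGL : Fintype (MulChar F ℂ) := Fintype.ofFinite _

theorem card_centralizer_ug :
    Nat.card (Subgroup.centralizer ({ug (1 : F)} : Set GL2)) =
      (Fintype.card F - 1) * Fintype.card F := by
  have hmem : ∀ x : GL2, x ∈ Subgroup.centralizer ({ug (1 : F)} : Set GL2) ↔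
      ((x : Matrix (Fin 2) (Fin 2) F) 1 0 = 0 ∧
        (x : Matrix (Fin 2) (Fin 2) F) 0 0 = (x : Matrix (Fin 2) (Fin 2) F) 1 1) := by
    intro x
    rw [Subgroup.mem_centralizer_singleton_iff, ← Units.val_inj, Units.val_mul, Units.val_mul,
      coe_ug, ← Matrix.ext_iff]
    simp [Fin.forall_fin_two, Matrix.mul_apply, Fin.sum_univ_two]
    constructor
    · rintro ⟨h1, h2⟩
      refine ⟨?_, ?_⟩
      · tauto
      · first
          | linear_combination h1.2
          | linear_combination -h1.2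
          | linear_combination h2
    · rintro ⟨h1, h2⟩
      simp [h1, h2, add_comm]
  rw [Nat.card_congr
    { toFun := fun x : Subgroup.centralizer ({ug (1 : F)} : Set GL2) =>
        (Units.mk0 ((x.1 : Matrix (Fin 2) (Fin 2) F) 0 0) (by
          intro h
          exact det_entries_ne x.1 (by rw [h, ((hmem x.1).1 x.2).1]; ring)),
        (x.1 : Matrix (Fin 2) (Fin 2) F) 0 1)
      invFun := fun p : Fˣ × F => ⟨mk (p.1 : F) p.2 0 (p.1 : F) (by simp),
        (hmem _).2 ⟨by simp [coe_mk], by simp [coe_mk]⟩⟩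
      left_inv := fun x => by
        obtain ⟨h10, he⟩ := (hmem x.1).1 x.2
        apply Subtype.ext
        apply Units.ext
        ext i j
        fin_cases i <;> fin_cases j <;> simp [coe_mk, h10, he]
      right_inv := fun p => by
        refine Prod.ext (Units.ext ?_) ?_ <;> simp [coe_mk] },
    Nat.card_prod, Nat.card_units, Nat.card_eq_fintype_card]

theorem card_classes : Fintype.card F ^ 2 - 1 ≤ Nat.card (ConjClasses GL2) := by
  classical
  let g : Fˣ ⊕ (F × Fˣ) → GL2 := Sum.elim (fun a => mk (a : F) 0 0 (a : F) (by simp))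
    (fun z => mk 0 (-(z.2 : F)) 1 z.1 (by simp))
  have hinj : Function.Injective fun o => ConjClasses.mk (g o) := by
    intro o o' h
    obtain ⟨x, hx⟩ := isConj_iff.1 (ConjClasses.mk_eq_mk_iff_isConj.1 h)
    rw [mul_inv_eq_iff_eq_mul] at hx
    have hdet : (g o : Matrix (Fin 2) (Fin 2) F).det = (g o' : Matrix (Fin 2) (Fin 2) F).det := by
      have h' := congrArg (fun M : GL2 => (M : Matrix (Fin 2) (Fin 2) F).det) hx
      simp only [Units.val_mul, det_mul] at h'
      exact mul_left_cancel₀ (a := (x : Matrix (Fin 2) (Fin 2) F).det)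
        (Matrix.GeneralLinearGroup.det x).ne_zero (h'.trans (mul_comm _ _))
    have he := congrArg (fun M : GL2 => (M : Matrix (Fin 2) (Fin 2) F)) hx
    simp only [Units.val_mul] at he
    have e00 := congrFun (congrFun he 0) 0
    have e01 := congrFun (congrFun he 0) 1
    have e10 := congrFun (congrFun he 1) 0
    have e11 := congrFun (congrFun he 1) 1
    have hd := det_entries_ne x
    match o, o' with
    | .inl a, .inl b =>
      simp only [g, Sum.elim_inl, coe_mk, Matrix.mul_apply, Fin.sum_univ_two, of_apply, cons_val',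
        cons_val_zero, cons_val_one, cons_val_fin_one, empty_val', mul_zero, zero_mul, add_zero,
        zero_add] at e00 e10
      congr 1
      by_contra hne
      have hne' : (a : F) - b ≠ 0 := sub_ne_zero.2 fun e => hne (Units.ext e)
      have h1 := (mul_eq_zero.1 (show ((a : F) - b) * (x : Matrix (Fin 2) (Fin 2) F) 0 0 = 0 by
        linear_combination e00)).resolve_left hne'
      have h2 := (mul_eq_zero.1 (show ((a : F) - b) * (x : Matrix (Fin 2) (Fin 2) F) 1 0 = 0 by
        linear_combination e10)).resolve_left hne'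
      exact hd (by rw [h1, h2]; ring)
    | .inl a, .inr z =>
      simp only [g, Sum.elim_inl, Sum.elim_inr, coe_mk, Matrix.mul_apply, Fin.sum_univ_two,
        of_apply, cons_val', cons_val_zero, cons_val_one, cons_val_fin_one, empty_val', mul_zero,
        zero_mul, add_zero, zero_add, one_mul, mul_one] at e00 e01 e10 e11
      exfalso
      apply hd
      linear_combination -(x : Matrix (Fin 2) (Fin 2) F) 1 1 * e10 +
        (x : Matrix (Fin 2) (Fin 2) F) 1 0 * e11
    | .inr z, .inl a =>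
      simp only [g, Sum.elim_inl, Sum.elim_inr, coe_mk, Matrix.mul_apply, Fin.sum_univ_two,
        of_apply, cons_val', cons_val_zero, cons_val_one, cons_val_fin_one, empty_val', mul_zero,
        zero_mul, add_zero, zero_add, one_mul, mul_one] at e00 e01 e10 e11
      exfalso
      apply hd
      linear_combination (x : Matrix (Fin 2) (Fin 2) F) 0 0 * e10 -
        (x : Matrix (Fin 2) (Fin 2) F) 1 0 * e00
    | .inr z, .inr z' =>
      simp only [g, Sum.elim_inr, coe_mk, det_fin_two_of, zero_mul, mul_one, zero_sub,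
        neg_neg] at hdet
      have ht : (g (.inr z) : Matrix (Fin 2) (Fin 2) F).trace =
          (g (.inr z') : Matrix (Fin 2) (Fin 2) F).trace := by
        have hx' : g (.inr z') = x * g (.inr z) * x⁻¹ := by rw [eq_mul_inv_iff_mul_eq]; exact hx.symm
        rw [hx', Units.val_mul, Units.val_mul]
        exact (Matrix.trace_units_conj x _).symm
      simp [g, coe_mk, trace_fin_two] at ht
      congr 1
      exact Prod.ext ht (Units.ext hdet)
  have h := Nat.card_le_card_of_injective _ hinj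
  rw [Nat.card_sum, Nat.card_prod, Nat.card_units, Nat.card_eq_fintype_card] at h
  refine le_trans (le_of_eq ?_) h
  obtain ⟨k, hk⟩ : ∃ k, Fintype.card F = k + 1 :=
    ⟨_, (Nat.sub_add_cancel Fintype.card_pos).symm⟩
  rw [hk, Nat.add_sub_cancel, show (k + 1) ^ 2 = k + (k + 1) * k + 1 by ring, Nat.add_sub_cancel]

/-- The two multiplicities on the root group. -/
theorem exists_root_mult {χ : GL2 → ℂ} (hχ : Cfsg.IsCharacter GL2 χ) :
    ∃ f m : ℕ, χ 1 = (f : ℂ) + ((Fintype.card F : ℂ) - 1) * m ∧ χ (ug 1) = (f : ℂ) - m := by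
  classical
  have hcl := CfsgLib.Char.IsCharacter.isClassFunction hχ
  have hval : ∀ b : F, b ≠ 0 → χ (ug b) = χ (ug 1) := fun b hb => by
    obtain ⟨c, hc⟩ := isConj_iff.1 (isConj_ug hb)
    rw [← hc]
    exact (hcl _ _).symm
  have hcomp := CfsgLib.Char.IsCharacter.comp hχ (ugHom (F := F))
  have hq : (Fintype.card F : ℂ) ≠ 0 := Nat.cast_ne_zero.2 Fintype.card_ne_zero
  have hkey : ∀ φ : AddChar F ℂ, ∃ n : ℕ, (Fintype.card F : ℂ) * n =
      χ 1 + χ (ug 1) * ((∑ b : F, conj (φ b)) - 1) := by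
    intro φ
    let f : Multiplicative F →* ℂˣ := φ.toMonoidHom.toHomUnits
    obtain ⟨n, hn⟩ := CfsgLib.Char.IsCharacter.exists_nat_classInner hcomp
      (CfsgLib.Char.isIrrCharacter_linear f)
    refine ⟨n, ?_⟩
    rw [← hn]
    unfold Cfsg.classInner
    rw [Nat.card_congr (Multiplicative.toAdd : Multiplicative F ≃ F), Nat.card_eq_fintype_card,
      mul_inv_cancel_left₀ hq]
    rw [Fintype.sum_equiv Multiplicative.toAdd _ (fun b => χ (ug b) * conj (φ b)) fun b => by
      simp [f, ugHom]]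
    rw [← Finset.add_sum_erase _ _ (Finset.mem_univ (0 : F)), ug_zero, AddChar.map_zero_eq_one,
      map_one, mul_one, Finset.sum_congr rfl (fun b hb => by rw [hval b (Finset.ne_of_mem_erase hb)]),
      ← Finset.mul_sum, Finset.sum_erase_eq_sub (Finset.mem_univ _), AddChar.map_zero_eq_one, map_one]
  obtain ⟨f, hf⟩ := hkey 0
  obtain ⟨m, hm⟩ := hkey (AddChar.FiniteField.primitiveChar_to_Complex F)
  simp only [AddChar.zero_apply, map_one, Finset.sum_const, Finset.card_univ, nsmul_eq_mul,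
    mul_one] at hf
  rw [← map_sum, AddChar.sum_eq_zero_of_ne_one ?_, map_zero] at hm
  · refine ⟨f, m, mul_left_cancel₀ hq ?_, mul_left_cancel₀ hq ?_⟩
    · linear_combination (-1 : ℂ) * hf + (1 - (Fintype.card F : ℂ)) * hm
    · linear_combination hm - hf
  · intro h
    have := (AddChar.FiniteField.primitiveChar_to_Complex_isPrimitive F) (one_ne_zero (α := F))
    rw [AddChar.mulShift_one] at this
    exact this h

theorem detChar_exists (α : MulChar F ℂ) : ∃ P : Cfsg.IrrCharacter GL2, ∀ g,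
    (P : GL2 → ℂ) g = α ((g : Matrix (Fin 2) (Fin 2) F).det) :=
  ⟨⟨_, CfsgLib.Char.isIrrCharacter_monoidHom
    (α.toUnitHom.comp (Matrix.GeneralLinearGroup.det (n := Fin 2) (R := F)))⟩,
    fun g => MulChar.coe_toUnitHom α (Matrix.GeneralLinearGroup.det g)⟩

/-- The constituents of a principal series function with equal parameters. -/
theorem R_diagonal (α : MulChar F ℂ) :
    ∃ P St : Cfsg.IrrCharacter GL2, P ≠ St ∧ R α α = (P : GL2 → ℂ) + (St : GL2 → ℂ) ∧
      (P : GL2 → ℂ) 1 = 1 ∧ (P : GL2 → ℂ) (ug 1) = 1 ∧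
      (St : GL2 → ℂ) 1 = (Fintype.card F : ℂ) ∧ (St : GL2 → ℂ) (ug 1) = 0 := by
  classical
  obtain ⟨P, hP⟩ := detChar_exists α
  obtain ⟨A, B, hAB, hsum, hcov⟩ := CfsgLib.SL2Deg.two_constituents (isCharacter_R α α) (by
    rw [classInner_R, if_pos ⟨rfl, rfl⟩]; norm_num)
  have hP0 : Cfsg.classInner (R α α) (P : GL2 → ℂ) ≠ 0 := by
    rw [R, CfsgLib.Char.classInner_indFun _ _ _ (CfsgLib.Char.IsIrrCharacter.isClassFunction P.2)]
    unfold Cfsg.classInner
    have hone : ∀ b : Cfsg.upperTriangularGL 2 F,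
        α (((b : GL2) : Matrix (Fin 2) (Fin 2) F) 0 0) *
          α (((b : GL2) : Matrix (Fin 2) (Fin 2) F) 1 1) * conj ((P : GL2 → ℂ) (b : GL2)) = 1 := by
      intro b
      rw [hP, det_fin_two, mem_B_iff.1 b.2, mul_zero, sub_zero, ← map_mul]
      set y := ((b : GL2) : Matrix (Fin 2) (Fin 2) F) 0 0 *
        ((b : GL2) : Matrix (Fin 2) (Fin 2) F) 1 1
      have hy : y ≠ 0 := by
        have := det_entries_ne (b : GL2)
        rwa [mem_B_iff.1 b.2, mul_zero, sub_zero] at this
      show α y * star (α y) = 1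
      rw [MulChar.star_apply', ← MulChar.mul_apply, mul_inv_cancel,
        MulChar.one_apply (isUnit_iff_ne_zero.2 hy)]
    rw [Finset.sum_congr rfl fun b _ => hone b, Finset.sum_const, Finset.card_univ, nsmul_eq_mul,
      mul_one, ← Nat.card_eq_fintype_card, inv_mul_cancel₀ card_B_ne_zero]
    exact one_ne_zero
  have h1 : (P : GL2 → ℂ) 1 = 1 := by rw [hP]; simp
  have hu : (P : GL2 → ℂ) (ug 1) = 1 := by rw [hP, coe_ug]; simp [det_fin_two_of]
  have hR1 : R α α 1 = (Fintype.card F : ℂ) + 1 := by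
    rw [R_triangular α α (by simp)]; simp
  have hRu : R α α (ug 1) = 1 := by
    rw [R_triangular α α (by simp [coe_ug])]; simp [coe_ug]
  rcases hcov P hP0 with e | e
  · refine ⟨P, B, e ▸ hAB, by rw [e]; exact hsum, h1, hu, ?_, ?_⟩
    · rw [hsum, Pi.add_apply, ← e, h1] at hR1; linear_combination hR1
    · rw [hsum, Pi.add_apply, ← e, hu] at hRu; linear_combination hRu
  · refine ⟨P, A, e ▸ hAB.symm, by rw [e, add_comm]; exact hsum, h1, hu, ?_, ?_⟩
    · rw [hsum, Pi.add_apply, ← e, h1] at hR1; linear_combination hR1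
    · rw [hsum, Pi.add_apply, ← e, hu] at hRu; linear_combination hRu

theorem classInner_R_left (α β : MulChar F ℂ) {χ : GL2 → ℂ} (hχ : Cfsg.IsClassFunction GL2 χ) :
    Cfsg.classInner (R α β) χ = (Nat.card (Cfsg.upperTriangularGL 2 F) : ℂ)⁻¹ *
      ∑ a : Fˣ, ∑ d : Fˣ, α (a : F) * β (d : F) *
        ∑ v : F, conj (χ (bEquiv.symm (a, d, v) : GL2)) := by
  classical
  rw [R, CfsgLib.Char.classInner_indFun _ _ _ hχ]
  unfold Cfsg.classInner
  rw [← (bEquiv (F := F)).symm.sum_comp]
  simp only [Fintype.sum_prod_type, Finset.mul_sum]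
  refine Finset.sum_congr rfl fun a _ => Finset.sum_congr rfl fun d _ =>
    Finset.sum_congr rfl fun v _ => ?_
  simp [bEquiv_symm_coe]

theorem sum_mulChar_two (G : Fˣ → Fˣ → ℂ) (a₀ d₀ : Fˣ) :
    ∑ α : MulChar F ℂ, ∑ β : MulChar F ℂ, α ((a₀⁻¹ : Fˣ) : F) * β ((d₀⁻¹ : Fˣ) : F) *
      (∑ a : Fˣ, ∑ d : Fˣ, α (a : F) * β (d : F) * G a d) =
      ((Fintype.card F - 1 : ℕ) : ℂ) * ((Fintype.card F - 1 : ℕ) : ℂ) * G a₀ d₀ := by
  classical
  have h : ∀ (α β : MulChar F ℂ), α ((a₀⁻¹ : Fˣ) : F) * β ((d₀⁻¹ : Fˣ) : F) *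
      (∑ a : Fˣ, ∑ d : Fˣ, α (a : F) * β (d : F) * G a d) =
      ∑ a : Fˣ, ∑ d : Fˣ, α ((a₀⁻¹ * a : Fˣ) : F) * β ((d₀⁻¹ * d : Fˣ) : F) * G a d := by
    intro α β
    simp only [Finset.mul_sum, Units.val_mul, map_mul]
    exact Finset.sum_congr rfl fun a _ => Finset.sum_congr rfl fun d _ => by ring
  simp only [h]
  rw [Finset.sum_congr rfl fun α _ => Finset.sum_comm, Finset.sum_comm]
  rw [Finset.sum_congr rfl fun a _ => Finset.sum_congr rfl fun α _ => Finset.sum_comm,
    Finset.sum_congr rfl fun a _ => Finset.sum_comm]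
  simp only [← Finset.sum_mul, ← Finset.mul_sum, CfsgLib.SL2Deg.sum_mulChar]
  simp only [mul_ite, ite_mul, mul_zero, zero_mul, inv_mul_eq_one, Finset.sum_ite_eq,
    Finset.mem_univ, if_true]

theorem exists_conj_diag {a d : Fˣ} (had : a ≠ d) (v : F) :
    IsConj (bEquiv.symm (a, d, (0 : F)) : GL2) (bEquiv.symm (a, d, v) : GL2) := by
  have hne : (d : F) - (a : F) ≠ 0 := sub_ne_zero.2 fun e => had (Units.ext e.symm)
  refine isConj_iff.2 ⟨ug (v / ((d : F) - a)), ?_⟩
  rw [mul_inv_eq_iff_eq_mul]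
  apply Units.ext
  rw [Units.val_mul, Units.val_mul, bEquiv_symm_coe, bEquiv_symm_coe, coe_ug]
  ext i j
  fin_cases i <;> fin_cases j <;> simp [Matrix.mul_apply, Fin.sum_univ_two]
  field_simp
  ring

set_option maxHeartbeats 1000000 in
/-- The character table of `GL₂(F)` by degree. -/
theorem gl2_table :
    ∃ L S D E : Finset (Cfsg.IrrCharacter GL2), (∀ χ, χ ∈ L ∨ χ ∈ S ∨ χ ∈ D ∨ χ ∈ E) ∧
      L.card = Fintype.card F - 1 ∧ S.card = Fintype.card F - 1 ∧
      2 * D.card = (Fintype.card F - 1) * (Fintype.card F - 2) ∧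
      2 * E.card = Fintype.card F * (Fintype.card F - 1) ∧
      (∀ χ ∈ L, (χ : GL2 → ℂ) 1 = 1 ∧ (χ : GL2 → ℂ) (ug 1) = 1) ∧
      (∀ χ ∈ S, (χ : GL2 → ℂ) 1 = (Fintype.card F : ℂ) ∧ (χ : GL2 → ℂ) (ug 1) = 0) ∧
      (∀ χ ∈ D, (χ : GL2 → ℂ) 1 = (Fintype.card F : ℂ) + 1 ∧ (χ : GL2 → ℂ) (ug 1) = 1 ∧
        ∀ g : GL2, (∀ (c : F) (v : Fin 2 → F), v ≠ 0 →
          (g : Matrix (Fin 2) (Fin 2) F).mulVec v ≠ c • v) → (χ : GL2 → ℂ) g = 0) ∧
      ∀ χ ∈ E, (χ : GL2 → ℂ) 1 = (Fintype.card F : ℂ) - 1 ∧ (χ : GL2 → ℂ) (ug 1) = -1 ∧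
        ∀ a d : Fˣ, a ≠ d → (χ : GL2 → ℂ) (bEquiv.symm (a, d, (0 : F)) : GL2) = 0 := by
  classical
  choose P St hPSt hsum hP1 hPu hS1 hSu using fun α : MulChar F ℂ => R_diagonal α
  choose f m hf hm using fun χ : Cfsg.IrrCharacter GL2 =>
    exists_root_mult (CfsgLib.Char.IsIrrCharacter.isCharacter χ.2)
  have hq2 : 2 ≤ Fintype.card F := Fintype.one_lt_card
  have hK : Fintype.card (MulChar F ℂ) = Fintype.card F - 1 := by
    rw [← Nat.card_eq_fintype_card, MulChar.card_eq_card_units_of_hasEnoughRootsOfUnity,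
      Nat.card_eq_fintype_card, Fintype.card_units]
  let Φ : {z : MulChar F ℂ × MulChar F ℂ // z.1 ≠ z.2} → Cfsg.IrrCharacter GL2 := fun z =>
    ⟨R z.1.1 z.1.2, CfsgLib.Char.IsCharacter.isIrrCharacter_of_classInner_self
      (isCharacter_R _ _) (by rw [classInner_R, if_pos ⟨rfl, rfl⟩,
        if_neg (fun h => z.2 h.1), add_zero])⟩
  set L := Finset.univ.image P with hL
  set S := Finset.univ.image St with hS
  set D := Finset.univ.image Φ with hD
  set E := Finset.univ \ (L ∪ S ∪ D) with hE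
  have hdisj : ∀ α β : MulChar F ℂ, (P α = P β ∨ St α = St β) → α = β := by
    intro α β h
    by_contra hne
    have h0 := classInner_R α α β β
    rw [if_neg (fun e => hne e.1), add_zero, hsum, hsum,
      CfsgLib.Char.classInner_add_left, CfsgLib.Char.classInner_add_right,
      CfsgLib.Char.classInner_add_right, CfsgLib.Char.classInner_irrCharacter,
      CfsgLib.Char.classInner_irrCharacter, CfsgLib.Char.classInner_irrCharacter,
      CfsgLib.Char.classInner_irrCharacter] at h0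
    rcases h with h | h
    · rw [if_pos h] at h0
      split_ifs at h0 <;> norm_num at h0
    · rw [if_pos h] at h0
      split_ifs at h0 <;> norm_num at h0
  have hLcard : L.card = Fintype.card F - 1 := by
    rw [hL, Finset.card_image_of_injective _ (fun a b h => hdisj a b (Or.inl h)), Finset.card_univ,
      hK]
  have hScard : S.card = Fintype.card F - 1 := by
    rw [hS, Finset.card_image_of_injective _ (fun a b h => hdisj a b (Or.inr h)), Finset.card_univ,
      hK]
  have hLv : ∀ χ ∈ L, (χ : GL2 → ℂ) 1 = 1 ∧ (χ : GL2 → ℂ) (ug 1) = 1 := by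
    intro χ hχ
    obtain ⟨α, -, rfl⟩ := Finset.mem_image.1 hχ
    exact ⟨hP1 α, hPu α⟩
  have hSv : ∀ χ ∈ S, (χ : GL2 → ℂ) 1 = (Fintype.card F : ℂ) ∧ (χ : GL2 → ℂ) (ug 1) = 0 := by
    intro χ hχ
    obtain ⟨α, -, rfl⟩ := Finset.mem_image.1 hχ
    exact ⟨hS1 α, hSu α⟩
  have hDv : ∀ χ ∈ D, (χ : GL2 → ℂ) 1 = (Fintype.card F : ℂ) + 1 ∧ (χ : GL2 → ℂ) (ug 1) = 1 ∧
      ∀ g : GL2, (∀ (c : F) (v : Fin 2 → F), v ≠ 0 →
        (g : Matrix (Fin 2) (Fin 2) F).mulVec v ≠ c • v) → (χ : GL2 → ℂ) g = 0 := by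
    intro χ hχ
    obtain ⟨z, -, rfl⟩ := Finset.mem_image.1 hχ
    refine ⟨?_, ?_, fun g hg => R_noEigen _ _ hg⟩
    · show R _ _ 1 = _
      rw [R_triangular _ _ (by simp)]; simp
    · show R _ _ (ug 1) = _
      rw [R_triangular _ _ (by simp [coe_ug])]; simp [coe_ug]
  have hDcard : 2 * D.card = (Fintype.card F - 1) * (Fintype.card F - 2) := by
    have hfib : ∀ y ∈ D, (Finset.univ.filter fun z => Φ z = y).card = 2 := by
      intro y hy
      obtain ⟨z, -, rfl⟩ := Finset.mem_image.1 hy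
      refine Finset.card_eq_two.2 ⟨z, ⟨(z.1.2, z.1.1), Ne.symm z.2⟩,
        fun e => z.2 (congrArg (fun w => w.1.1) e), ?_⟩
      ext w
      simp only [Finset.mem_filter, Finset.mem_univ, true_and, Finset.mem_insert,
        Finset.mem_singleton]
      constructor
      · intro h
        have h1 := classInner_R w.1.1 w.1.2 z.1.1 z.1.2
        rw [show R w.1.1 w.1.2 = R z.1.1 z.1.2 from congrArg Subtype.val h, classInner_R,
          if_pos ⟨rfl, rfl⟩] at h1
        split_ifs at h1 with ha hb hc hd he <;>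
          first
            | exact Or.inl (Subtype.ext (Prod.ext (by tauto) (by tauto)))
            | exact Or.inr (Subtype.ext (Prod.ext (by tauto) (by tauto)))
            | norm_num at h1
      · rintro (rfl | rfl)
        · rfl
        · refine Subtype.ext (sub_eq_zero.1 (eq_zero_of_norm_zero ?_))
          show Cfsg.classInner (R z.1.2 z.1.1 - R z.1.1 z.1.2) (R z.1.2 z.1.1 - R z.1.1 z.1.2) = 0
          rw [CfsgLib.Char.classInner_sub_left, CfsgLib.Char.classInner_sub_right,
            CfsgLib.Char.classInner_sub_right, classInner_R, classInner_R, classInner_R, classInner_R]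
          split_ifs <;> first | (exfalso; tauto) | norm_num
    have h := Finset.card_eq_sum_card_image Φ Finset.univ
    rw [← hD, Finset.sum_congr rfl hfib, Finset.sum_const, smul_eq_mul, mul_comm,
      Finset.card_univ, Fintype.card_subtype] at h
    rw [← h, show (Finset.univ.filter fun z : MulChar F ℂ × MulChar F ℂ => z.1 ≠ z.2) =
      Finset.univ.offDiag by ext z; simp, Finset.offDiag_card, Finset.card_univ, hK, ← Nat.mul_sub_one]
    congr 1
  have hfm : ∀ (χ : Cfsg.IrrCharacter GL2) (a b : ℕ),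
      (χ : GL2 → ℂ) 1 = (a : ℂ) + ((Fintype.card F : ℂ) - 1) * b →
      (χ : GL2 → ℂ) (ug 1) = (a : ℂ) - b → f χ = a ∧ m χ = b := by
    intro χ a b h1 h2
    have hb : (m χ : ℂ) = b := mul_left_cancel₀
      (Nat.cast_ne_zero.2 (Fintype.card_ne_zero (α := F))) (by
        linear_combination h1 - hf χ - h2 + hm χ)
    have ha : (f χ : ℂ) = a := by linear_combination h2 - hm χ + hb
    exact ⟨Nat.cast_injective ha, Nat.cast_injective hb⟩
  have hLm : ∀ χ ∈ L, f χ = 1 ∧ m χ = 0 := fun χ hχ =>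
    hfm χ 1 0 (by rw [(hLv χ hχ).1]; simp) (by rw [(hLv χ hχ).2]; simp)
  have hSm : ∀ χ ∈ S, f χ = 1 ∧ m χ = 1 := fun χ hχ =>
    hfm χ 1 1 (by rw [(hSv χ hχ).1]; simp) (by rw [(hSv χ hχ).2]; simp)
  have hDm : ∀ χ ∈ D, f χ = 2 ∧ m χ = 1 := fun χ hχ =>
    hfm χ 2 1 (by rw [(hDv χ hχ).1]; push_cast; ring) (by rw [(hDv χ hχ).2.1]; norm_num)
  -- the cuspidal part
  have hEf : ∀ χ ∈ E, f χ = 0 ∧
      ∀ a d : Fˣ, ∑ v : F, conj ((χ : GL2 → ℂ) (bEquiv.symm (a, d, v) : GL2)) = 0 := by
    intro χ hχ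
    simp only [hE, Finset.mem_sdiff, Finset.mem_univ, true_and, Finset.mem_union, not_or] at hχ
    have hzero : ∀ α β : MulChar F ℂ, Cfsg.classInner (R α β) (χ : GL2 → ℂ) = 0 := by
      intro α β
      by_cases h : α = β
      · subst h
        rw [hsum, CfsgLib.Char.classInner_add_left, CfsgLib.Char.classInner_irrCharacter,
          CfsgLib.Char.classInner_irrCharacter,
          if_neg (fun e : P α = χ => hχ.1.1 (e ▸ Finset.mem_image_of_mem _ (Finset.mem_univ _))),
          if_neg (fun e : St α = χ => hχ.1.2 (e ▸ Finset.mem_image_of_mem _ (Finset.mem_univ _))),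
          add_zero]
      · show Cfsg.classInner (Φ ⟨(α, β), h⟩ : GL2 → ℂ) (χ : GL2 → ℂ) = 0
        rw [CfsgLib.Char.classInner_irrCharacter, if_neg]
        exact fun e => hχ.2 (e ▸ Finset.mem_image_of_mem _ (Finset.mem_univ _))
    have hsums : ∀ a d : Fˣ,
        ∑ v : F, conj ((χ : GL2 → ℂ) (bEquiv.symm (a, d, v) : GL2)) = 0 := by
      intro a₀ d₀
      have h0 : ∀ α β : MulChar F ℂ, ∑ a : Fˣ, ∑ d : Fˣ, α (a : F) * β (d : F) *
          ∑ v : F, conj ((χ : GL2 → ℂ) (bEquiv.symm (a, d, v) : GL2)) = 0 := fun α β => by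
        have h := hzero α β
        rw [classInner_R_left α β (CfsgLib.Char.IsIrrCharacter.isClassFunction χ.2)] at h
        exact (mul_eq_zero.1 h).resolve_left (inv_ne_zero card_B_ne_zero)
      have h := sum_mulChar_two (fun a d =>
        ∑ v : F, conj ((χ : GL2 → ℂ) (bEquiv.symm (a, d, v) : GL2))) a₀ d₀
      simp only [h0, mul_zero, Finset.sum_const_zero] at h
      have hq1 : ((Fintype.card F - 1 : ℕ) : ℂ) ≠ 0 := Nat.cast_ne_zero.2 (by omega)
      exact (mul_eq_zero.1 h.symm).resolve_left (mul_ne_zero hq1 hq1)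
    refine ⟨?_, hsums⟩
    have h := hsums 1 1
    rw [← map_sum] at h
    have h' := congrArg conj h
    rw [Complex.conj_conj, map_zero] at h'
    have hb : ∀ v : F, (bEquiv.symm ((1 : Fˣ), (1 : Fˣ), v) : GL2) = ug v := fun v => rfl
    simp only [hb] at h'
    rw [← Finset.add_sum_erase _ _ (Finset.mem_univ (0 : F)), ug_zero,
      Finset.sum_congr rfl (g := fun _ => (χ : GL2 → ℂ) (ug 1)) (fun v hv => by
        obtain ⟨c, hc⟩ := isConj_iff.1 (isConj_ug (Finset.ne_of_mem_erase hv))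
        rw [← hc]
        exact (CfsgLib.Char.IsIrrCharacter.isClassFunction χ.2 _ _).symm),
      Finset.sum_const, Finset.card_erase_of_mem (Finset.mem_univ _), Finset.card_univ,
      nsmul_eq_mul, Nat.cast_sub Fintype.card_pos, Nat.cast_one] at h'
    have : (Fintype.card F : ℂ) * (f χ : ℂ) = 0 := by
      linear_combination h' - hf χ - ((Fintype.card F : ℂ) - 1) * hm χ
    exact_mod_cast (mul_eq_zero.1 this).resolve_left
      (Nat.cast_ne_zero.2 (Fintype.card_ne_zero (α := F)))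
  have hEpos : ∀ χ ∈ E, 1 ≤ m χ := by
    intro χ hχ
    by_contra h
    apply CfsgLib.Char.IsIrrCharacter.apply_one_ne_zero χ.2
    rw [hf χ, (hEf χ hχ).1, show m χ = 0 by omega]
    simp
  have hLS : Disjoint L S := Finset.disjoint_left.2 fun χ h1 h2 => by
    have := (hLm χ h1).2; have := (hSm χ h2).2; omega
  have hLSD : Disjoint (L ∪ S) D := Finset.disjoint_left.2 fun χ h1 h2 => by
    have := (hDm χ h2).1
    rcases Finset.mem_union.1 h1 with h | h
    · have := (hLm χ h).1; omega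
    · have := (hSm χ h).1; omega
  -- the norm of the Gelfand-Graev function
  have hgram : ∑ χ, m χ * m χ = Fintype.card F * (Fintype.card F - 1) := by
    have hq : (Fintype.card F : ℂ) ≠ 0 := Nat.cast_ne_zero.2 Fintype.card_ne_zero
    have hm' : ∀ χ : Cfsg.IrrCharacter GL2, (m χ : ℂ) * m χ =
        ((Fintype.card F : ℂ)⁻¹ * (Fintype.card F : ℂ)⁻¹) *
          ((χ : GL2 → ℂ) 1 * conj ((χ : GL2 → ℂ) 1) + (χ : GL2 → ℂ) (ug 1) * conj ((χ : GL2 → ℂ) (ug 1)) -
            (χ : GL2 → ℂ) 1 * conj ((χ : GL2 → ℂ) (ug 1)) -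
            (χ : GL2 → ℂ) (ug 1) * conj ((χ : GL2 → ℂ) 1)) := by
      intro χ
      rw [hf, hm]
      simp only [map_add, map_sub, map_mul, map_natCast, map_one]
      field_simp
      ring
    have hne : ¬ IsConj (1 : GL2) (ug 1) := by
      intro h
      have := congrArg (fun M : GL2 => (M : Matrix (Fin 2) (Fin 2) F) 0 1)
        (isConj_one_right.1 h)
      simp [coe_ug] at this
    have h : (((∑ χ, m χ * m χ : ℕ)) : ℂ) = ((Fintype.card F * (Fintype.card F - 1) : ℕ) : ℂ) := by
      push_cast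
      simp only [hm', ← Finset.mul_sum, Finset.sum_sub_distrib, Finset.sum_add_distrib,
        CfsgLib.Char.sum_mul_conj, if_pos (IsConj.refl _), if_neg hne,
        if_neg (fun e : IsConj (ug 1) (1 : GL2) => hne e.symm)]
      rw [card_centralizer_ug, show Nat.card (Subgroup.centralizer ({1} : Set GL2)) = Nat.card GL2
        from Nat.card_congr (Equiv.subtypeUnivEquiv fun x => by
          simp [Subgroup.mem_centralizer_singleton_iff]), card_GL2_eq, card_B]
      push_cast [Nat.cast_sub (show 1 ≤ Fintype.card F by omega)]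
      field_simp
      ring
    exact_mod_cast h
  have hsplit : ∀ g : Cfsg.IrrCharacter GL2 → ℕ,
      ∑ χ, g χ = ∑ χ ∈ L, g χ + ∑ χ ∈ S, g χ + ∑ χ ∈ D, g χ + ∑ χ ∈ E, g χ := by
    intro g
    rw [← Finset.sum_union hLS, ← Finset.sum_union hLSD, hE, add_comm]
    exact (Finset.sum_sdiff (Finset.subset_univ _)).symm
  have hEsum : ∑ χ ∈ E, m χ * m χ + (S.card + D.card) =
      Fintype.card F * (Fintype.card F - 1) := by
    rw [← hgram, hsplit, Finset.sum_eq_zero (s := L) (fun χ h => by rw [(hLm χ h).2, zero_mul]),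
      Finset.sum_congr rfl (s₂ := S) (g := fun _ => 1) (fun χ h => by rw [(hSm χ h).2]),
      Finset.sum_congr rfl (s₂ := D) (g := fun _ => 1) (fun χ h => by rw [(hDm χ h).2])]
    simp only [Finset.sum_const, smul_eq_mul, mul_one]
    ring
  have hcount : Fintype.card F ^ 2 - 1 ≤ L.card + S.card + D.card + E.card := by
    have h := card_classes (F := F)
    rw [← CfsgLib.Char.card_irrCharacter, Nat.card_eq_fintype_card,
      ← Finset.card_univ (α := Cfsg.IrrCharacter GL2), Finset.card_eq_sum_ones, hsplit (fun _ => 1)] at h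
    simpa [Finset.sum_const] using h
  have hEle : E.card ≤ ∑ χ ∈ E, m χ * m χ := by
    rw [Finset.card_eq_sum_ones]
    exact Finset.sum_le_sum fun χ h => Nat.one_le_iff_ne_zero.2
      (Nat.mul_ne_zero (by have := hEpos χ h; omega) (by have := hEpos χ h; omega))
  obtain ⟨k, hk⟩ : ∃ k, Fintype.card F = k + 2 := ⟨Fintype.card F - 2, by omega⟩
  rw [hk, show k + 2 - 1 = k + 1 by omega, show k + 2 - 2 = k by omega] at hDcard
  rw [hk, show k + 2 - 1 = k + 1 by omega] at hScard hLcard hEsum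
  rw [hk, show (k + 2) ^ 2 = (k + 1) * (k + 3) + 1 by ring, Nat.add_sub_cancel] at hcount
  have hEcard : 2 * E.card = (k + 2) * (k + 1) ∧ ∑ χ ∈ E, m χ * m χ = E.card := by
    have h1 : 2 * (∑ χ ∈ E, m χ * m χ) = (k + 2) * (k + 1) := by nlinarith
    have h2 : (k + 2) * (k + 1) ≤ 2 * E.card := by nlinarith
    omega
  have hEm : ∀ χ ∈ E, m χ = 1 := by
    intro χ h
    have hle : ∀ χ ∈ E, 1 ≤ m χ * m χ := fun χ h => Nat.one_le_iff_ne_zero.2
      (Nat.mul_ne_zero (by have := hEpos χ h; omega) (by have := hEpos χ h; omega))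
    have h1 := (Finset.sum_eq_sum_iff_of_le hle).1
        (by rw [hEcard.2, Finset.card_eq_sum_ones]) χ h
    exact Nat.eq_one_of_mul_eq_one_right h1.symm
  refine ⟨L, S, D, E, fun χ => ?_, by omega, by omega, ?_, ?_, hLv, hSv, hDv,
    fun χ hχ => ⟨?_, ?_, fun a d had => ?_⟩⟩
  · simp only [hE, Finset.mem_sdiff, Finset.mem_univ, true_and, Finset.mem_union]; tauto
  · rw [hk, show k + 2 - 1 = k + 1 by omega, show k + 2 - 2 = k by omega]; exact hDcard
  · rw [hk, show k + 2 - 1 = k + 1 by omega]; exact hEcard.1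
  · rw [hf χ, (hEf χ hχ).1, hEm χ hχ]; simp
  · rw [hm χ, (hEf χ hχ).1, hEm χ hχ]; simp
  · have h := (hEf χ hχ).2 a d
    rw [Finset.sum_congr rfl (g := fun _ =>
        conj ((χ : GL2 → ℂ) (bEquiv.symm (a, d, (0 : F)) : GL2))) (fun v _ => by
      obtain ⟨c, hc⟩ := isConj_iff.1 (exists_conj_diag had v)
      rw [← hc, CfsgLib.Char.IsIrrCharacter.isClassFunction χ.2 _ _]),
      Finset.sum_const, Finset.card_univ, nsmul_eq_mul, mul_eq_zero] at h
    exact (map_eq_zero (starRingEnd ℂ)).1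
      (h.resolve_left (Nat.cast_ne_zero.2 Fintype.card_ne_zero))

end CfsgLib.GL2Char
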