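import Cfsg.Agent.Lib.SL2Deg.Degrees

/-! The outer diagonal automorphism of `SL₂(F)` and the quadratic principal series. -/

set_option autoImplicit false

open scoped ComplexConjugate

namespace CfsgLib.GL2Char

open Matrix CfsgLib.SL2Trace CfsgLib.SL2Borel CfsgLib.SL2Deg

variable {F : Type*} [Field F]

local notation "SL2" => Matrix.SpecialLinearGroup (Fin 2) F

/-- Conjugation by `diag(ν, 1)`. -/
def twist (ν : Fˣ) : SL2 ≃* SL2 where
  toFun g := mk2 ((g : Matrix (Fin 2) (Fin 2) F) 0 0)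
    ((ν : F) * (g : Matrix (Fin 2) (Fin 2) F) 0 1)
    ((g : Matrix (Fin 2) (Fin 2) F) 1 0 * ((ν⁻¹ : Fˣ) : F)) ((g : Matrix (Fin 2) (Fin 2) F) 1 1)
    (by
      have h : (ν : F) * ((ν⁻¹ : Fˣ) : F) = 1 := ν.mul_inv
      linear_combination det_coe g -
        (g : Matrix (Fin 2) (Fin 2) F) 0 1 * (g : Matrix (Fin 2) (Fin 2) F) 1 0 * h)
  invFun g := mk2 ((g : Matrix (Fin 2) (Fin 2) F) 0 0)
    (((ν⁻¹ : Fˣ) : F) * (g : Matrix (Fin 2) (Fin 2) F) 0 1)
    ((g : Matrix (Fin 2) (Fin 2) F) 1 0 * (ν : F)) ((g : Matrix (Fin 2) (Fin 2) F) 1 1)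
    (by
      have h : (ν : F) * ((ν⁻¹ : Fˣ) : F) = 1 := ν.mul_inv
      linear_combination det_coe g -
        (g : Matrix (Fin 2) (Fin 2) F) 0 1 * (g : Matrix (Fin 2) (Fin 2) F) 1 0 * h)
  left_inv g := by
    apply Subtype.ext
    ext i j
    fin_cases i <;> fin_cases j <;> simp [coe_mk2]
  right_inv g := by
    apply Subtype.ext
    ext i j
    fin_cases i <;> fin_cases j <;> simp [coe_mk2]
  map_mul' g h := by
    apply Subtype.ext
    ext i j
    fin_cases i <;> fin_cases j <;>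
      simp [coe_mk2, Matrix.SpecialLinearGroup.coe_mul, Matrix.mul_apply, Fin.sum_univ_two] <;>
      field_simp

theorem coe_twist (ν : Fˣ) (g : SL2) :
    ((twist ν g : SL2) : Matrix (Fin 2) (Fin 2) F) =
      !![(g : Matrix (Fin 2) (Fin 2) F) 0 0, (ν : F) * (g : Matrix (Fin 2) (Fin 2) F) 0 1;
        (g : Matrix (Fin 2) (Fin 2) F) 1 0 * ((ν⁻¹ : Fˣ) : F), (g : Matrix (Fin 2) (Fin 2) F) 1 1] :=
  rfl

theorem twist_u (ν : Fˣ) (b : F) : twist ν (u b : SL2) = u ((ν : F) * b) := by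
  apply Subtype.ext
  rw [coe_twist, coe_u, coe_u]
  simp

/-- The conjugating element of `GL₂`. -/
noncomputable def diagGL (ν : Fˣ) : GL (Fin 2) F :=
  Matrix.GeneralLinearGroup.mkOfDetNeZero !![(ν : F), 0; 0, 1] (by simp [det_fin_two_of])

theorem toGL_twist (ν : Fˣ) (g : SL2) :
    Matrix.SpecialLinearGroup.toGL (twist ν g) =
      diagGL ν * Matrix.SpecialLinearGroup.toGL g * (diagGL ν)⁻¹ := by
  rw [eq_mul_inv_iff_mul_eq]
  apply Units.ext
  show ((twist ν g : SL2) : Matrix (Fin 2) (Fin 2) F) * !![(ν : F), 0; 0, 1] =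
    !![(ν : F), 0; 0, 1] * (g : Matrix (Fin 2) (Fin 2) F)
  rw [coe_twist]
  ext i j
  fin_cases i <;> fin_cases j <;> simp [Matrix.mul_apply, Fin.sum_univ_two] <;> field_simp

variable [Fintype F] [DecidableEq F]

theorem R_twist (α : MulChar F ℂ) (ν : Fˣ) (g : SL2) : R α (twist ν g) = R α g := by
  rw [CfsgLib.SL2Borel.R_apply, CfsgLib.SL2Borel.R_apply]
  congr 1
  refine (Fintype.sum_equiv (twist ν).toEquiv _ _ fun x => ?_).symm
  show term α (x⁻¹ * g * x) = term α ((twist ν x)⁻¹ * twist ν g * twist ν x)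
  rw [← map_inv, ← map_mul, ← map_mul]
  generalize x⁻¹ * g * x = y
  simp [term, coe_twist]

variable {ψ : AddChar F ℂ}

theorem coef_twist (ν : Fˣ) (t : F) (χ : SL2 → ℂ) :
    coef ψ ((ν : F) * t) (χ ∘ twist ν) = coef ψ t χ := by
  unfold coef
  congr 1
  refine Fintype.sum_equiv (Equiv.mulLeft₀ (ν : F) ν.ne_zero) _ _ fun b => ?_
  show χ (twist ν (u b)) * conj (ψ ((ν : F) * t * b)) = χ (u ((ν : F) * b)) * _
  rw [twist_u, mul_comm (ν : F) t, mul_assoc]
  rfl

/-- Linear characters are trivial on the centre. -/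
theorem linear_apply_neg_one (f : SL2 →* ℂˣ) : f (-1) = 1 := by
  by_cases h2 : (2 : F) = 0
  · have h : (-1 : SL2) = 1 := by
      apply Subtype.ext
      rw [Matrix.SpecialLinearGroup.coe_neg, Matrix.SpecialLinearGroup.coe_one]
      ext i j
      fin_cases i <;> fin_cases j <;> simp <;> linear_combination -h2
    rw [h, map_one]
  obtain ⟨a, b, hab⟩ := exists_quad_eq (1 : F) 0 1 (-1) (by
    intro h
    have h4 : (2 : F) * 2 = 0 := by linear_combination -h
    exact h2 (mul_self_eq_zero.1 h4))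
  let x : SL2 := mk2 a b b (-a) (by linear_combination -hab)
  let w : SL2 := mk2 0 (-1) 1 0 (by ring)
  have hw : x * w = w⁻¹ * x := by
    apply Subtype.ext
    rw [Matrix.SpecialLinearGroup.coe_mul, Matrix.SpecialLinearGroup.coe_mul,
      Matrix.SpecialLinearGroup.coe_inv]
    ext i j
    fin_cases i <;> fin_cases j <;> simp [x, w, coe_mk2, adjugate_fin_two]
  have hsq : w * w = -1 := by
    apply Subtype.ext
    rw [Matrix.SpecialLinearGroup.coe_mul, Matrix.SpecialLinearGroup.coe_neg,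
      Matrix.SpecialLinearGroup.coe_one]
    ext i j
    fin_cases i <;> fin_cases j <;> simp [w, coe_mk2]
  have h := congrArg f hw
  rw [map_mul, map_mul, map_inv, mul_comm (f x), mul_left_inj] at h
  rw [← hsq, map_mul]
  nth_rewrite 2 [h]
  exact mul_inv_cancel _

theorem two_ne_zero_or (h : Odd (Fintype.card F)) : (2 : F) ≠ 0 :=
  CfsgLib.SL2Deg.two_ne_zero_of_odd h

/-- No linear constituent in the quadratic principal series. -/
theorem R_not_inner_linear (hodd : Odd (Fintype.card F)) {η : MulChar F ℂ} (hη : η⁻¹ = η)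
    (hη1 : η ≠ 1) {χ : SL2 → ℂ} (hχ : Cfsg.IsIrrCharacter SL2 χ) (h1 : χ 1 = 1) :
    Cfsg.classInner (R η) χ = 0 := by
  obtain ⟨f, hf⟩ := CfsgLib.Char.isIrrCharacter_degree_one_iff.1 ⟨hχ, h1⟩
  rcases mul_self_eq_one_iff.1 (show η (-1) * η (-1) = 1 by
    rw [← map_mul, neg_one_mul, neg_neg, MulChar.map_one]) with hm | hm
  · have h4 : 4 ≤ Fintype.card F := by
      by_contra hlt
      apply hη1
      refine MulChar.ext fun a => ?_
      rw [MulChar.one_apply_coe]
      have h3 : Fintype.card F = 3 := by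
        have := Fintype.one_lt_card (α := F)
        obtain ⟨j, hj⟩ := hodd
        omega
      have ha := FiniteField.pow_card_sub_one_eq_one (a : F) a.ne_zero
      rw [h3] at ha
      rcases sq_eq_one_iff.1 ha with e | e <;> rw [e]
      · exact MulChar.map_one _
      · exact hm
    rw [eq_one_of_degree_one h4 hχ h1]
    exact R_ne_inner_one hη1
  · rw [classInner_R_left _ (CfsgLib.Char.IsIrrCharacter.isClassFunction hχ)]
    have hodd' : ∀ a : Fˣ, η ((-a : Fˣ) : F) * ∑ v : F, conj (χ (bMk (-a) v : SL2)) =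
        -(η (a : F) * ∑ v : F, conj (χ (bMk a v : SL2))) := by
      intro a
      rw [Units.val_neg, neg_eq_neg_one_mul (a : F), map_mul, hm, ← neg_mul, neg_one_mul]
      congr 1
      refine Fintype.sum_equiv (Equiv.neg F) _ _ fun v => ?_
      congr 1
      have hm1 : (bMk (-a) v : SL2) = (-1 : SL2) * (bMk a (-v) : SL2) := by
        apply Subtype.ext
        rw [Matrix.SpecialLinearGroup.coe_mul, Matrix.SpecialLinearGroup.coe_neg,
          Matrix.SpecialLinearGroup.coe_one, bMk_coe, bMk_coe]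
        ext i j
        fin_cases i <;> fin_cases j <;> simp [inv_neg]
      rw [hm1, hf]
      simp only [map_mul, linear_apply_neg_one f, one_mul]
      rfl
    set S : ℂ := ∑ a : Fˣ, η (a : F) * ∑ v : F, conj (χ (bMk a v : SL2))
    have hS : S = -S := by
      conv_lhs => rw [show S = ∑ a : Fˣ, η ((-a : Fˣ) : F) *
        ∑ v : F, conj (χ (bMk (-a) v : SL2)) from
          (Fintype.sum_equiv (Equiv.neg Fˣ) _ _ fun a => rfl).symm]
      rw [Finset.sum_congr rfl fun a _ => hodd' a, Finset.sum_neg_distrib]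
    rw [show S = 0 by linear_combination hS / 2, mul_zero]

/-- The quadratic principal series splits into two characters swapped by the outer automorphism. -/
theorem quadratic_split (hodd : Odd (Fintype.card F)) {η : MulChar F ℂ} (hη : η⁻¹ = η)
    (hη1 : η ≠ 1) :
    ∃ (A B : Cfsg.IrrCharacter SL2) (ν : Fˣ), A ≠ B ∧ R η = (A : SL2 → ℂ) + (B : SL2 → ℂ) ∧
      (∀ g, (B : SL2 → ℂ) (twist ν g) = (A : SL2 → ℂ) g) ∧
      (A : SL2 → ℂ) 1 = (((Fintype.card F + 1) / 2 : ℕ) : ℂ) ∧
      (B : SL2 → ℂ) 1 = (((Fintype.card F + 1) / 2 : ℕ) : ℂ) := by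
  classical
  have h2 := CfsgLib.SL2Deg.two_ne_zero_of_odd hodd
  obtain ⟨ψ, hψ⟩ := exists_primitive (F := F)
  obtain ⟨ν₀, hν⟩ := FiniteField.exists_nonsquare (F := F)
    (fun h => h2 (by
      have : CharP F 2 := ringChar.of_eq h
      exact_mod_cast CharP.cast_eq_zero F 2))
  have hν0 : ν₀ ≠ 0 := fun e => hν (by rw [e]; exact IsSquare.zero)
  let ν : Fˣ := Units.mk0 ν₀ hν0
  obtain ⟨A, B, hAB, hsum, hcov⟩ := two_constituents (exists_nat_classInner_R η) (by
    rw [classInner_R, if_pos rfl, if_pos hη.symm]; norm_num)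
  have hinn : ∀ χ : Cfsg.IrrCharacter SL2, χ = A ∨ χ = B →
      Cfsg.classInner (R η) (χ : SL2 → ℂ) = 1 := by
    intro χ hχ
    rw [hsum, CfsgLib.Char.classInner_add_left, CfsgLib.Char.classInner_irrCharacter,
      CfsgLib.Char.classInner_irrCharacter]
    rcases hχ with e | e <;> subst e
    · rw [if_pos rfl, if_neg hAB.symm, add_zero]
    · rw [if_neg hAB, if_pos rfl, zero_add]
  have hnolin : ∀ χ : Cfsg.IrrCharacter SL2, χ = A ∨ χ = B → (χ : SL2 → ℂ) 1 ≠ 1 := fun χ hχ h => by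
    have := hinn χ hχ
    rw [R_not_inner_linear hodd hη hη1 χ.2 h] at this
    exact zero_ne_one this
  let A' : Cfsg.IrrCharacter SL2 :=
    ⟨(A : SL2 → ℂ) ∘ twist ν, CfsgLib.CharTwist.isIrrCharacter_comp_equiv A.2 (twist ν)⟩
  have hA'cf : Cfsg.classInner (R η) (A' : SL2 → ℂ) ≠ 0 := by
    have h : Cfsg.classInner (R η) (A' : SL2 → ℂ) = Cfsg.classInner (R η) (A : SL2 → ℂ) := by
      unfold Cfsg.classInner
      congr 1
      refine Fintype.sum_equiv (twist ν).toEquiv _ _ fun g => ?_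
      show R η g * conj ((A : SL2 → ℂ) (twist ν g)) = R η (twist ν g) * _
      rw [R_twist]
      rfl
    rw [h, hinn A (Or.inl rfl)]
    exact one_ne_zero
  have hswap : A' = B := by
    refine (hcov A' hA'cf).resolve_left fun hA => ?_
    have hmul : mult ψ ν₀ A = mult ψ 1 A := by
      refine mult_eq_of ?_
      rw [← mult_spec]
      conv_lhs => rw [← congrArg Subtype.val hA, ← mul_one ν₀]
      exact coef_twist ν 1 _
    have hs : ∀ t : F, mult ψ t A + mult ψ t B = 1 + (if t = 0 then 1 else 0) := by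
      intro t
      have h := coef_R ψ hψ η t
      rw [hsum, coef_add, mult_spec, mult_spec] at h
      have h' : ((mult ψ t A + mult ψ t B : ℕ) : ℂ) =
          ((1 + (if t = 0 then 1 else 0) : ℕ) : ℂ) := by push_cast; exact h
      exact_mod_cast h'
    have h0 := hs 0
    have h1 := hs 1
    have hn := hs ν₀
    simp only [if_true, one_ne_zero, hν0, if_false, add_zero] at h0 h1 hn
    have hA0 := mult_zero_ne_zero (ψ := ψ) (α := η) (χ := A)
      (by rw [hinn _ (Or.inl rfl)]; exact one_ne_zero)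
    have hB0 := mult_zero_ne_zero (ψ := ψ) (α := η) (χ := B)
      (by rw [hinn _ (Or.inr rfl)]; exact one_ne_zero)
    rcases Nat.eq_zero_or_pos (mult ψ 1 A) with hm | hm
    · refine hnolin A (Or.inl rfl) ?_
      rw [apply_one_of_vec hψ hν (χ := A) (f := 1) (m := 0) (n := 0) ⟨by omega, hm, by omega⟩]
      simp
    · refine hnolin B (Or.inr rfl) ?_
      rw [apply_one_of_vec hψ hν (χ := B) (f := 1) (m := 0) (n := 0)
        ⟨by omega, by omega, by omega⟩]
      simp
  have hBA : ∀ g, (B : SL2 → ℂ) (twist ν g) = (A : SL2 → ℂ) g := by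
    intro g
    have h := R_twist η ν g
    rw [hsum, Pi.add_apply, Pi.add_apply] at h
    have h1 : (B : SL2 → ℂ) g = (A : SL2 → ℂ) (twist ν g) :=
      (congrFun (congrArg Subtype.val hswap) g).symm
    linear_combination h + h1
  have hdeg : (A : SL2 → ℂ) 1 = (B : SL2 → ℂ) 1 := by
    have h := hBA 1
    rw [map_one] at h
    exact h.symm
  have htot : (A : SL2 → ℂ) 1 + (B : SL2 → ℂ) 1 = (Fintype.card F : ℂ) + 1 := by
    have h := R_u η (0 : F)
    rw [u_zero, hsum, Pi.add_apply, if_pos rfl] at h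
    exact h
  have hhalf : ((((Fintype.card F + 1) / 2 : ℕ)) : ℂ) * 2 = (Fintype.card F : ℂ) + 1 := by
    obtain ⟨j, hj⟩ := hodd
    have : (Fintype.card F + 1) / 2 * 2 = Fintype.card F + 1 := by omega
    exact_mod_cast this
  refine ⟨A, B, ν, hAB, hsum, hBA, ?_, ?_⟩
  · linear_combination (htot + hdeg) / 2 - hhalf / 2
  · linear_combination (htot - hdeg) / 2 - hhalf / 2

end CfsgLib.GL2Char
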