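import Cfsg.Agent.Lib.SL2Deg.Gram
import Cfsg.Agent.Lib.SL2Trace.Orders
import Cfsg.Agent.Lib.Linear.Card

/-! Unipotent classes of `SL₂(F)`. -/

set_option autoImplicit false

namespace CfsgLib.GL2Char

open Matrix CfsgLib.SL2Trace CfsgLib.SL2Borel CfsgLib.SL2Deg

variable {F : Type*} [Field F]

local notation "SL2" => Matrix.SpecialLinearGroup (Fin 2) F

/-- A nontrivial element of trace two is conjugate to an upper transvection. -/
theorem exists_conj_u {g : SL2} (h : (g : Matrix (Fin 2) (Fin 2) F).trace = 2) (hg : g ≠ 1) :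
    ∃ b : F, b ≠ 0 ∧ IsConj g (u b) := by
  obtain ⟨P, b, hb⟩ : ∃ (P : SL2) (b : F), g = P * u b * P⁻¹ := by
    rw [trace_fin_two] at h
    have hd := det_coe g
    by_cases hc : (g : Matrix (Fin 2) (Fin 2) F) 1 0 = 0
    · refine ⟨1, (g : Matrix (Fin 2) (Fin 2) F) 0 1, ?_⟩
      rw [one_mul, inv_one, mul_one]
      rw [hc] at hd
      have hsq : ((g : Matrix (Fin 2) (Fin 2) F) 0 0 - 1) *
          ((g : Matrix (Fin 2) (Fin 2) F) 0 0 - 1) = 0 := by
        linear_combination (g : Matrix (Fin 2) (Fin 2) F) 0 0 * h - hd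
      have h00 := sub_eq_zero.1 (mul_self_eq_zero.1 hsq)
      apply Subtype.ext
      rw [coe_u]
      ext i j
      fin_cases i <;> fin_cases j <;> simp [hc, h00]
      linear_combination h - h00
    · refine ⟨mk2 ((g : Matrix (Fin 2) (Fin 2) F) 0 0 - 1)
          (-1 / (g : Matrix (Fin 2) (Fin 2) F) 1 0) ((g : Matrix (Fin 2) (Fin 2) F) 1 0) 0
          (by field_simp; ring), -1 / (g : Matrix (Fin 2) (Fin 2) F) 1 0, ?_⟩
      rw [eq_mul_inv_iff_mul_eq]
      apply Subtype.ext
      rw [Matrix.SpecialLinearGroup.coe_mul, Matrix.SpecialLinearGroup.coe_mul, coe_u, coe_mk2]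
      ext i j
      fin_cases i <;> fin_cases j <;> simp [Matrix.mul_apply, Fin.sum_univ_two] <;> field_simp
      all_goals first
        | ring1
        | linear_combination hd
        | linear_combination -hd
        | linear_combination h
        | linear_combination (g : Matrix (Fin 2) (Fin 2) F) 1 0 * h
        | linear_combination (g : Matrix (Fin 2) (Fin 2) F) 0 0 * h - hd
        | linear_combination hd - (g : Matrix (Fin 2) (Fin 2) F) 0 0 * h
  refine ⟨b, fun h0 => hg ?_, (isConj_iff.2 ⟨P, hb.symm⟩).symm⟩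
  rw [hb, h0, u_zero, mul_one, mul_inv_cancel]

theorem trace_u (b : F) : ((u b : SL2) : Matrix (Fin 2) (Fin 2) F).trace = 2 := by
  rw [trace_fin_two, coe_u]
  simp
  norm_num

theorem isConj_u_iff {b d : F} (hb : b ≠ 0) :
    IsConj (u b : SL2) (u d) ↔ ∃ a : F, a ≠ 0 ∧ d = a ^ 2 * b := by
  rw [isConj_iff]
  constructor
  · rintro ⟨x, hx⟩
    rw [mul_inv_eq_iff_eq_mul, mul_u_eq_iff] at hx
    obtain ⟨-, h10, he⟩ := hx
    have h0 := (mul_eq_zero.1 h10).resolve_right hb
    have hd := det_coe x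
    rw [h0] at hd
    have hx0 : (x : Matrix (Fin 2) (Fin 2) F) 0 0 ≠ 0 := fun e => by rw [e] at hd; simp at hd
    exact ⟨_, hx0, by
      linear_combination (-d) * hd - (x : Matrix (Fin 2) (Fin 2) F) 0 0 * he⟩
  · rintro ⟨a, ha, rfl⟩
    exact ⟨(bMk (Units.mk0 a ha) 0 : SL2), by rw [u_conj]; rfl⟩

theorem orderOf_eq_iff (p : ℕ) [hp : Fact p.Prime] [CharP F p] (g : SL2) :
    orderOf g = p ↔ ((g : Matrix (Fin 2) (Fin 2) F).trace = 2 ∧ g ≠ 1) := by
  constructor
  · intro hg
    refine ⟨?_, fun h1 => ?_⟩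
    · have hpow : (g : Matrix (Fin 2) (Fin 2) F) ^ p = 1 := by
        rw [← Matrix.SpecialLinearGroup.coe_pow, ← hg, pow_orderOf_eq_one,
          Matrix.SpecialLinearGroup.coe_one]
      have h0 : ((g : Matrix (Fin 2) (Fin 2) F) - 1) ^ p = 0 := by
        rw [sub_pow_char_of_commute p (Commute.one_right _), hpow, one_pow, sub_self]
      have hdet : ((g : Matrix (Fin 2) (Fin 2) F) - 1).det = 0 := by
        have h := congrArg Matrix.det h0
        rw [Matrix.det_pow, Matrix.det_zero] at h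
        exact eq_zero_of_pow_eq_zero h
      rw [det_fin_two] at hdet
      simp at hdet
      rw [trace_fin_two]
      linear_combination det_coe g - hdet
    · rw [h1, orderOf_one] at hg
      exact hp.out.ne_one hg.symm
  · rintro ⟨ht, hne⟩
    refine orderOf_eq_prime ?_ hne
    obtain ⟨b, -, hb⟩ := exists_conj_u ht hne
    obtain ⟨x, hx⟩ := isConj_iff.1 hb.symm
    rw [← hx, conj_pow]
    have hu : (u b : SL2) ^ p = 1 := by
      have h := map_pow (uHom (F := F)) (Multiplicative.ofAdd b) p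
      change u ((Multiplicative.ofAdd b ^ p).toAdd) = u b ^ p at h
      rw [← h, toAdd_pow, toAdd_ofAdd, nsmul_eq_mul, CharP.cast_eq_zero, zero_mul, u_zero]
    rw [hu, mul_one, mul_inv_cancel]

theorem card_centralizer_u {b : F} (hb : b ≠ 0) :
    Nat.card (Subgroup.centralizer ({(u b : SL2)} : Set SL2)) =
      Nat.card {a : F // a ^ 2 = 1} * Nat.card F := by
  rw [← Nat.card_prod]
  have hmem : ∀ x : SL2, x ∈ Subgroup.centralizer ({(u b : SL2)} : Set SL2) ↔
      ((x : Matrix (Fin 2) (Fin 2) F) 1 0 = 0 ∧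
        (x : Matrix (Fin 2) (Fin 2) F) 0 0 = (x : Matrix (Fin 2) (Fin 2) F) 1 1) := by
    intro x
    rw [Subgroup.mem_centralizer_singleton_iff]
    constructor
    · intro h
      obtain ⟨-, h10, he⟩ := (mul_u_eq_iff x b b).1 h
      exact ⟨(mul_eq_zero.1 h10).resolve_right hb,
        mul_left_cancel₀ hb (by linear_combination he)⟩
    · rintro ⟨h10, he⟩
      exact (mul_u_eq_iff x b b).2 ⟨by rw [h10, zero_mul], by rw [h10, zero_mul], by rw [he]; ring⟩
  refine Nat.card_congr
    { toFun := fun x => (⟨(x.1 : Matrix (Fin 2) (Fin 2) F) 0 0, by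
        have hd := det_coe x.1
        obtain ⟨h10, he⟩ := (hmem x.1).1 x.2
        rw [h10, ← he] at hd
        linear_combination hd⟩, (x.1 : Matrix (Fin 2) (Fin 2) F) 0 1)
      invFun := fun p => ⟨mk2 p.1.1 p.2 0 p.1.1 (by linear_combination p.1.2),
        (hmem _).2 ⟨by simp [coe_mk2], by simp [coe_mk2]⟩⟩
      left_inv := fun x => by
        obtain ⟨h10, he⟩ := (hmem x.1).1 x.2
        apply Subtype.ext
        apply Subtype.ext
        ext i j
        fin_cases i <;> fin_cases j <;> simp [coe_mk2, h10, he]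
      right_inv := fun p => by
        refine Prod.ext (Subtype.ext ?_) ?_ <;> simp [coe_mk2] }

variable [Fintype F]

theorem card_carrier_mul {g : SL2} {b : F} (hb : b ≠ 0) (h : IsConj g (u b)) :
    Nat.card (ConjClasses.mk g).carrier * (Nat.card {a : F // a ^ 2 = 1} * Fintype.card F) =
      Fintype.card F * (Fintype.card F ^ 2 - 1) := by
  classical
  rw [ConjClasses.mk_eq_mk_iff_isConj.2 h, ← CfsgLib.Linear.card_SL_two,
    ← CfsgLib.Char.card_isConj_mul_card_centralizer (u b : SL2), card_centralizer_u hb,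
    Nat.card_eq_fintype_card (α := F)]
  rfl

end CfsgLib.GL2Char
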